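import Groth.Prelude.Def_SchLoc
import Mathlib.AlgebraicGeometry.SpreadingOut
import Mathlib.AlgebraicGeometry.Morphisms.FiniteType
import Mathlib.AlgebraicGeometry.Noetherian

/-!
# Isomorphisms on a local ring spread out
-/

set_option autoImplicit false
set_option backward.isDefEq.respectTransparency false
set_option linter.style.haveILetI false

universe u

open CategoryTheory AlgebraicGeometry TopologicalSpace

namespace GrothLib.SchLoc8

variable {X Y : Scheme.{u}}

theorem fromSpecStalkOfMem_resLE (f : X ⟶ Y) {O : X.Opens} {V : Y.Opens} (e : O ≤ f ⁻¹ᵁ V) (x : X) (hx : x ∈ O) :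
    O.fromSpecStalkOfMem x hx ≫ f.resLE V O e =
      Spec.map (f.stalkMap x) ≫ V.fromSpecStalkOfMem (f x) (e hx) := by
  rw [← cancel_mono V.ι, Category.assoc, Scheme.Hom.resLE_comp_ι, Category.assoc,
    Scheme.Opens.fromSpecStalkOfMem_ι, ← Category.assoc, Scheme.Opens.fromSpecStalkOfMem_ι,
    Scheme.SpecMap_stalkMap_fromSpecStalk]

/-- A morphism locally of finite type inducing an isomorphism of local rings is a local isomorphism there. -/
theorem isLocalIsoAt_of_isIso_stalkMap (f : X ⟶ Y) [IsLocallyNoetherian Y] [LocallyOfFiniteType f] (x : X)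
    [IsIso (f.stalkMap x)] : SchLoc.IsLocalIsoAt f x := by
  haveI : IsLocallyNoetherian X := LocallyOfFiniteType.isLocallyNoetherian f
  let φ : Spec (Y.presheaf.stalk (f x)) ⟶ X := Spec.map (inv (f.stalkMap x)) ≫ X.fromSpecStalk x
  have hφ : φ ≫ f = Y.fromSpecStalk (f x) ≫ 𝟙 Y := by
    rw [Category.comp_id, Category.assoc, ← Scheme.SpecMap_stalkMap_fromSpecStalk, ← Category.assoc, ← Spec.map_comp,
      IsIso.hom_inv_id, Spec.map_id, Category.id_comp]
  obtain ⟨V, hyV, s, hs1, hs2⟩ := spread_out_of_isGermInjective' (𝟙 Y) f φ hφ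
  rw [Category.comp_id] at hs2
  let O : X.Opens := f ⁻¹ᵁ V
  let f' : O.toScheme ⟶ V.toScheme := f.resLE V O le_rfl
  have key : O.toScheme.fromSpecStalk ⟨x, hyV⟩ ≫ O.ι = O.toScheme.fromSpecStalk ⟨x, hyV⟩ ≫ f' ≫ s := by
    have h : O.fromSpecStalkOfMem x hyV ≫ O.ι = O.fromSpecStalkOfMem x hyV ≫ f' ≫ s := by
      rw [← Category.assoc, fromSpecStalkOfMem_resLE f le_rfl x hyV, Category.assoc, ← hs1,
        Scheme.Opens.fromSpecStalkOfMem_ι]
      simp only [φ, ← Category.assoc, ← Spec.map_comp, IsIso.inv_hom_id, Spec.map_id, Category.id_comp]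
    rw [Scheme.Opens.fromSpecStalkOfMem, Category.assoc, Category.assoc, cancel_epi] at h
    exact h
  haveI : IsLocallyNoetherian O.toScheme := isLocallyNoetherian_of_isOpenImmersion O.ι
  obtain ⟨W, hxW, hW⟩ := spread_out_unique_of_isGermInjective' O.ι (f' ≫ s) key
  let m : W.toScheme ⟶ X := W.ι ≫ O.ι
  let n : W.toScheme ⟶ V.toScheme := W.ι ≫ f'
  have hns : n ≫ s = m := by simp [n, m, hW]
  let P : V.toScheme.Opens := s ⁻¹ᵁ m.opensRange
  have hn : Set.range n ⊆ Set.range P.ι := by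
    rw [Scheme.Opens.range_ι]
    rintro _ ⟨w, rfl⟩
    show s (n w) ∈ Set.range m
    rw [← Scheme.Hom.comp_apply, hns]
    exact ⟨w, rfl⟩
  let n' := IsOpenImmersion.lift P.ι n hn
  let q := IsOpenImmersion.lift m (P.ι ≫ s) (by
    rintro _ ⟨p, rfl⟩
    exact p.2)
  have hn' : n' ≫ P.ι = n := IsOpenImmersion.lift_fac _ _ _
  have hq : q ≫ m = P.ι ≫ s := IsOpenImmersion.lift_fac _ _ _
  have hqn : q ≫ n = P.ι := by
    rw [← cancel_mono V.ι]
    have : n ≫ V.ι = m ≫ f := by simp [n, m, f', O]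
    rw [Category.assoc, this, ← Category.assoc, hq, Category.assoc, hs2]
  haveI : IsIso n' := ⟨q, by rw [← cancel_mono m, Category.assoc, hq, ← Category.assoc, hn', hns, Category.id_comp],
    by rw [← cancel_mono P.ι, Category.assoc, hn', hqn, Category.id_comp]⟩
  haveI : IsOpenImmersion n := by rw [← hn']; infer_instance
  refine ⟨m.opensRange, ⟨⟨⟨x, hyV⟩, hxW⟩, rfl⟩, ?_⟩
  have hmf : m ≫ f = n ≫ V.ι := by simp [n, m, f', O]
  rw [← Scheme.Hom.isoOpensRange_inv_comp m, Category.assoc, hmf]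
  infer_instance

theorem isIso_stalkMap_of_isLocalIsoAt {f : X ⟶ Y} {x : X} (h : SchLoc.IsLocalIsoAt f x) :
    IsIso (f.stalkMap x) := by
  obtain ⟨U, hx, hU⟩ := h
  have h1 := Scheme.Hom.stalkMap_comp U.ι f ⟨x, hx⟩
  haveI : IsIso (f.stalkMap (U.ι ⟨x, hx⟩) ≫ U.ι.stalkMap ⟨x, hx⟩) := h1 ▸ inferInstance
  exact IsIso.of_isIso_comp_right (f.stalkMap (U.ι ⟨x, hx⟩)) (U.ι.stalkMap ⟨x, hx⟩)

end GrothLib.SchLoc8
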