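import Mathlib.AlgebraicGeometry.FunctionField
import Mathlib.AlgebraicGeometry.Morphisms.Separated
import Mathlib.AlgebraicGeometry.Morphisms.Immersion
import Mathlib.AlgebraicGeometry.Stalk
import Mathlib.RingTheory.LocalRing.LocalSubring

universe u

open AlgebraicGeometry CategoryTheory CategoryTheory.Limits IsLocalRing

namespace GrothLib.SchLoc8

variable {X : Scheme.{u}} [IsIntegral X]

/-- The map from the local ring at `x` to the function field, as a morphism of `CommRingCat`. -/
noncomputable def toFF (x : X) : X.presheaf.stalk x ⟶ X.functionField :=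
  CommRingCat.ofHom (algebraMap (X.presheaf.stalk x) X.functionField)

lemma toFF_fromSpecStalk (x : X) :
    Spec.map (toFF x) ≫ X.fromSpecStalk x = X.fromSpecStalk (genericPoint X) :=
  Scheme.SpecMap_stalkSpecializes_fromSpecStalk ((genericPoint_spec X).specializes trivial)

lemma eq_toFF {x : X} (a : X.presheaf.stalk x ⟶ X.functionField)
    (h : Spec.map a ≫ X.fromSpecStalk x = X.fromSpecStalk (genericPoint X)) : a = toFF x :=
  Spec.map_injective ((cancel_mono (X.fromSpecStalk x)).mp (h.trans (toFF_fromSpecStalk x).symm))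

variable {Q : Type u} [CommRing Q] [IsLocalRing Q]

omit [IsIntegral X] in
lemma closedPoint_map_fromSpecStalk {x : X} (a : X.presheaf.stalk x ⟶ CommRingCat.of Q)
    [IsLocalHom a.hom] :
    (Spec.map a ≫ X.fromSpecStalk x).base (closedPoint Q) = x := by
  rw [Scheme.Hom.comp_apply, Spec_closedPoint, Scheme.fromSpecStalk_closedPoint]

omit [IsLocalRing Q] in
/-- Over a separated integral scheme, morphisms from the spectrum of a subring of the function field
through stalks are determined by their generic point. -/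
lemma map_fromSpecStalk_eq [X.IsSeparated] [IsDomain Q]
    (ι : CommRingCat.of Q ⟶ X.functionField) (hι : Function.Injective ι.hom) {x y : X}
    (a : X.presheaf.stalk x ⟶ CommRingCat.of Q) (b : X.presheaf.stalk y ⟶ CommRingCat.of Q)
    (ha : a ≫ ι = toFF x) (hb : b ≫ ι = toFF y) :
    Spec.map a ≫ X.fromSpecStalk x = Spec.map b ≫ X.fromSpecStalk y := by
  have : IsDominant (Spec.map ι) := ⟨PrimeSpectrum.denseRange_comap_iff_ker_le_nilRadical _ |>.mpr
    (by rw [(RingHom.injective_iff_ker_eq_bot _).mp hι]; exact bot_le)⟩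
  apply ext_of_isDominant (Spec.map ι)
  rw [← Spec.map_comp_assoc, ← Spec.map_comp_assoc, ha, hb, toFF_fromSpecStalk, toFF_fromSpecStalk]

omit [IsLocalRing Q] in
lemma map_fromSpecStalk_eq_of_eq (ι : CommRingCat.of Q ⟶ X.functionField)
    (hι : Function.Injective ι.hom) {x y : X} (e : x = y)
    (a : X.presheaf.stalk x ⟶ CommRingCat.of Q) (b : X.presheaf.stalk y ⟶ CommRingCat.of Q)
    (ha : a ≫ ι = toFF x) (hb : b ≫ ι = toFF y) :
    Spec.map a ≫ X.fromSpecStalk x = Spec.map b ≫ X.fromSpecStalk y := by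
  subst e
  have : a = b := by
    refine CommRingCat.hom_ext (RingHom.ext fun t ↦ hι ?_)
    exact (congrArg (fun φ ↦ φ.hom t) (ha.trans hb.symm) :)
  rw [this]

omit [IsLocalRing Q] in
/-- The morphism from the spectrum of a subring containing the local ring at `x`. -/
noncomputable def inclQ (Q : Subring X.functionField) (x : X)
    (h : (algebraMap (X.presheaf.stalk x) X.functionField).range ≤ Q) :
    X.presheaf.stalk x ⟶ CommRingCat.of Q :=
  CommRingCat.ofHom ((algebraMap (X.presheaf.stalk x) X.functionField).codRestrict Q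
    fun r ↦ h ⟨r, rfl⟩)

lemma inclQ_comp (Q : Subring X.functionField) (x : X)
    (h : (algebraMap (X.presheaf.stalk x) X.functionField).range ≤ Q) :
    inclQ Q x h ≫ CommRingCat.ofHom Q.subtype = toFF x := rfl

lemma isLocalHom_inclQ (Q : LocalSubring X.functionField) (x : X)
    (h : LocalSubring.range (algebraMap (X.presheaf.stalk x) X.functionField) ≤ Q) :
    IsLocalHom (inclQ Q.toSubring x h.1).hom := by
  constructor
  intro r hr
  obtain ⟨hle, hloc⟩ := h
  have h1 : IsUnit (⟨algebraMap _ _ r, ⟨r, rfl⟩⟩ :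
      (LocalSubring.range (algebraMap (X.presheaf.stalk x) X.functionField)).toSubring) :=
    hloc.map_nonunit _ hr
  obtain ⟨⟨_, s, rfl⟩, hs⟩ := isUnit_iff_exists_inv.mp h1
  have hs' : algebraMap (X.presheaf.stalk x) X.functionField (r * s) = 1 := by
    rw [map_mul]; exact congrArg Subtype.val hs
  exact isUnit_iff_exists_inv.mpr
    ⟨s, IsFractionRing.injective (X.presheaf.stalk x) X.functionField (hs'.trans (map_one _).symm)⟩

theorem eq_of_allied [X.IsSeparated] {x y : X} {Q : LocalSubring X.functionField}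
    (hx : LocalSubring.range (algebraMap (X.presheaf.stalk x) X.functionField) ≤ Q)
    (hy : LocalSubring.range (algebraMap (X.presheaf.stalk y) X.functionField) ≤ Q) : x = y := by
  have := isLocalHom_inclQ Q x hx
  have := isLocalHom_inclQ Q y hy
  have h := map_fromSpecStalk_eq (CommRingCat.ofHom Q.toSubring.subtype) Subtype.val_injective
    (inclQ _ x hx.1) (inclQ _ y hy.1) (inclQ_comp _ x hx.1) (inclQ_comp _ y hy.1)
  rw [← closedPoint_map_fromSpecStalk (inclQ Q.toSubring x hx.1),
    ← closedPoint_map_fromSpecStalk (inclQ Q.toSubring y hy.1), h]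

omit [IsIntegral X] in
lemma isLocalHom_rangeRestrict {A B : Type u} [CommRing A] [IsLocalRing A] [CommRing B]
    [Nontrivial B] (ψ : A →+* B) : IsLocalHom ψ.rangeRestrict := by
  constructor
  intro a ha
  obtain ⟨⟨_, c, rfl⟩, hc⟩ := isUnit_iff_exists_inv.mp ha
  have h1 : ψ (a * c) = 1 := by rw [map_mul]; exact congrArg Subtype.val hc
  refine of_not_not fun hn ↦ ?_
  have h2 : IsUnit (1 - a * c) := isUnit_one_sub_self_of_mem_nonunits _
    fun h ↦ hn (isUnit_of_mul_isUnit_left h)
  have h3 := h2.map ψ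
  rw [map_sub, h1, map_one, sub_self] at h3
  exact not_isUnit_zero h3

omit [IsLocalRing Q] in
/-- Any specialization of the image of the generic point under a morphism to a product lies on the
diagonal, provided distinct points are not allied. -/
theorem isSeparated_of_eq_of_allied
    (H : ∀ (x y : X) (Q : LocalSubring X.functionField),
      LocalSubring.range (algebraMap (X.presheaf.stalk x) X.functionField) ≤ Q →
      LocalSubring.range (algebraMap (X.presheaf.stalk y) X.functionField) ≤ Q → x = y) :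
    X.IsSeparated := by
  refine Scheme.isSeparated_iff_isClosedImmersion_prod_lift.mpr
    (IsClosedImmersion.of_isPreimmersion _ (isClosed_of_closure_subset ?_))
  intro z hz
  set Δ : X ⟶ X ⨯ X := prod.lift (𝟙 X) (𝟙 X)
  have hspec : Δ.base (genericPoint X) ⤳ z := by
    rw [specializes_iff_mem_closure]
    refine closure_minimal ?_ isClosed_closure hz
    rintro _ ⟨t, rfl⟩
    have ht := image_closure_subset_closure_image (f := Δ.base) (s := {genericPoint X}) Δ.continuous
      ⟨t, ((genericPoint_spec X).specializes (Set.mem_univ t)).mem_closure, rfl⟩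
    rwa [Set.image_singleton] at ht
  set ψ : (X ⨯ X).presheaf.stalk z ⟶ X.functionField :=
    (X ⨯ X).presheaf.stalkSpecializes hspec ≫ Δ.stalkMap (genericPoint X)
  have hψ : Spec.map ψ ≫ (X ⨯ X).fromSpecStalk z = X.fromSpecStalk (genericPoint X) ≫ Δ := by
    rw [Spec.map_comp_assoc, Scheme.SpecMap_stalkSpecializes_fromSpecStalk,
      Scheme.SpecMap_stalkMap_fromSpecStalk]
  have key : ∀ p : X ⨯ X ⟶ X, Δ ≫ p = 𝟙 X → p.stalkMap z ≫ ψ = toFF (p.base z) ∧
      LocalSubring.range (algebraMap (X.presheaf.stalk (p.base z)) X.functionField) ≤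
        LocalSubring.range ψ.hom := by
    intro p hp
    have h1 : p.stalkMap z ≫ ψ = toFF (p.base z) := by
      apply eq_toFF
      rw [Spec.map_comp_assoc, Scheme.SpecMap_stalkMap_fromSpecStalk, reassoc_of% hψ, hp,
        Category.comp_id]
    have h2 : ∀ r, ψ.hom ((p.stalkMap z).hom r) = algebraMap _ X.functionField r :=
      fun r ↦ (congrArg (fun φ ↦ φ.hom r) h1 :)
    refine ⟨h1, ⟨?_, ⟨?_⟩⟩⟩
    · rintro _ ⟨r, rfl⟩
      exact ⟨_, h2 r⟩
    · rintro ⟨_, r, rfl⟩ hr
      have hu : IsUnit (ψ.hom.rangeRestrict ((p.stalkMap z).hom r)) := by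
        convert! hr using 1
        exact Subtype.ext (h2 r)
      have := isLocalHom_rangeRestrict ψ.hom
      have hr' : IsUnit r := (isUnit_map_iff (p.stalkMap z).hom r).mp
        ((isUnit_map_iff ψ.hom.rangeRestrict _).mp hu)
      exact hr'.map (algebraMap (X.presheaf.stalk (p.base z)) X.functionField).rangeRestrict
  obtain ⟨hf, hf'⟩ := key prod.fst (prod.lift_fst _ _)
  obtain ⟨hs, hs'⟩ := key prod.snd (prod.lift_snd _ _)
  have hxy := H _ _ _ hf' hs'
  let ρ : (X ⨯ X).presheaf.stalk z ⟶ CommRingCat.of (LocalSubring.range ψ.hom).toSubring :=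
    CommRingCat.ofHom (ψ.hom.codRestrict _ fun r ↦ ⟨r, rfl⟩)
  have : IsLocalHom ρ.hom := ⟨fun r hr ↦
    (isLocalHom_rangeRestrict ψ.hom).map_nonunit r hr⟩
  set g := Spec.map ρ ≫ (X ⨯ X).fromSpecStalk z with hg
  have h12 : g ≫ prod.fst = g ≫ prod.snd := by
    simp only [hg, Category.assoc, ← Scheme.SpecMap_stalkMap_fromSpecStalk, ← Spec.map_comp_assoc]
    exact map_fromSpecStalk_eq_of_eq (CommRingCat.ofHom (LocalSubring.range ψ.hom).toSubring.subtype)
      Subtype.val_injective hxy _ _ hf hs
  have hgd : g = (g ≫ prod.fst) ≫ Δ := by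
    apply prod.hom_ext <;> simp only [Δ, Category.assoc, prod.lift_fst, prod.lift_snd, Category.comp_id, h12]
  have hgz : g.base (closedPoint _) = z := closedPoint_map_fromSpecStalk ρ
  rw [← hgz, hgd]
  exact ⟨_, (Scheme.Hom.comp_apply _ _ _).symm⟩

end GrothLib.SchLoc8
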